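import Cfsg.Agent.H746.EK.Num
import Cfsg.Agent.NotCT.Orders

/-!
# S5745, `CrossK` (`k ≥ 2`): sporadic `T` in `³D₄(q)`, `G₂(q)`, `q` even (helper631)

* `spo`, `card_mem`, `facOk_spo` : the 26 orders;
* `chk`, `chk_spec` : the sieve `t ^ k ∣ |G(2 ^ i)| ≤ Bk t (2 t) k`;
* `spor_td4`, `spor_g2` : no solution, `2 ≤ k ≤ 14`, `2 ≤ k ≤ 7`.
-/

set_option autoImplicit false
set_option maxRecDepth 100000

namespace Cfsg.Agent.H631.EK

open Cfsg Cfsg.Agent.H746.EK

/-- `(t, Lc t, N, N')` for the 26 orders `t`: `|³D₄(2 ^ N)|`, `|G₂(2 ^ N')|` exceed the bounds -/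
def tab : List (ℕ × ℕ × ℕ × ℕ) :=
  [
   (7920, 1180782, 25, 25),
   (95040, 263096654, 33, 32),
   (175560, 938864925, 35, 34),
   (443520, 12284320528, 38, 37),
   (604800, 26403575918, 39, 38),
   (10200960, 85078705608595, 49, 48),
   (44352000, 6939969038255186, 54, 54),
   (50232960, 9988599647273403, 54, 54),
   (244823040, 1161839824146208863, 60, 60),
   (898128000, 56860639375088534644, 65, 65),
   (4030387200, 5137720598400073648596, 70, 70),
   (145926144000, 342912297682013117884884610, 83, 83),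
   (448345497600, 7074653979509130896882271457, 87, 87),
   (460815505920, 7678487647574025293413381306, 87, 87),
   (495766656000, 9561507406172574992750562711, 88, 87),
   (42305421312000, 125101331768759548739076491815915034033, 111, 110),
   (64561751654400, 463676411830021209497232836771062454, 107, 107),
   (273030912000000, 1597091312167063101990708086191728813, 110, 110),
   (51765179004000000, 10884472780383034928308828156706245361593220, 129, 129),
   (90745943887872000, 58637561862924700520829963564321565756572203, 131, 131),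
   (4089470473293004800, 5366565648343429615999125079156242694570695954223, 145, 145),
   (4157776806543360000, 7878565136423900831601518050555680368277884819698983, 150, 150),
   (86775571046077562880, 215585949250351294934087316365388129884754236960212054, 157, 157),
   (1255205709190661721292800, 155181148462093177482650633419451624195053172583263283514355087186, 191, 190),
   (4154781481226426191177580544000000,
      16437443347659448028862791724125782397999448537901061120469053380139232491637344324800768764744173499171182762902159875902529566110906174171319444143199388203389,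
      380, 380),
   (808017424794512875886459904961710757005754368000000000,
      1744699142847717977959513641796679181329088764586081663414614774730996748629349704627005917895027595677714643402348136734708140095461921260228914718252286018459653028743452252191343070039240443280737959936000000000,
      536, 535)]

/-- the orders of the sporadic groups -/
def spo : List ℕ := tab.map Prod.fst

theorem card_mem {T : Type*} [Group T] (h : IsSporadicGroup T) : Nat.card T ∈ spo := by
  unfold IsSporadicGroup at h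
  rcases h with h | h | h | h | h | h | h | h | h | h | h | h | h | h | h | h | h | h | h | h | h | h | h | h | h | h
  · rw [NotCT.Orders.m11 h]; decide
  · rw [NotCT.Orders.m12 h]; decide
  · rw [NotCT.Orders.m22 h]; decide
  · rw [NotCT.Orders.m23 h]; decide
  · rw [NotCT.Orders.m24 h]; decide
  · rw [NotCT.Orders.j1 h]; decide
  · rw [NotCT.Orders.j2 h]; decide
  · rw [NotCT.Orders.j3 h]; decide
  · rw [NotCT.Orders.j4 h]; decide
  · rw [NotCT.Orders.co1 h]; decide
  · rw [NotCT.Orders.co2 h]; decide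
  · rw [NotCT.Orders.co3 h]; decide
  · rw [NotCT.Orders.mcl h]; decide
  · rw [NotCT.Orders.hs h]; decide
  · rw [NotCT.Orders.suz h]; decide
  · rw [NotCT.Orders.he h]; decide
  · rw [NotCT.Orders.ru h]; decide
  · rw [NotCT.Orders.on h]; decide
  · rw [NotCT.Orders.ly h]; decide
  · rw [NotCT.Orders.fi22 h]; decide
  · rw [NotCT.Orders.fi23 h]; decide
  · rw [NotCT.Orders.fi24 h]; decide
  · rw [NotCT.Orders.hn h]; decide
  · rw [NotCT.Orders.th h]; decide
  · rw [NotCT.Orders.b h]; decide
  · rw [NotCT.Orders.m h]; decide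

theorem facOk_chk : (spo.all fun t => facOk t) = true := by decide +kernel

theorem facOk_spo {t : ℕ} (h : t ∈ spo) : facOk t = true := List.all_eq_true.1 facOk_chk t h

theorem Lc_chk : (tab.all fun x => Nat.beq (Lc x.1) x.2.1) = true := by decide +kernel

/-- `Bk t (2 t) k` with `L = Lc t` -/
def bk (L t k : ℕ) : ℕ := (1 + (L ^ k + Ik t (2 * t) k) * (2 * Dk t k)) * ((2 * t) ^ k * k.factorial)

theorem bk_eq (t k : ℕ) : bk (Lc t) t k = Bk t (2 * t) k := rfl

/-- the sieve -/
def chk (f : Fam) (t L K N : ℕ) : Bool :=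
  ((List.range (N - 1)).all fun i => !(Nat.beq (nm f (2 ^ (i + 1)) % t ^ 2) 0) ||
    (List.range (K - 1)).all fun k => !(Nat.beq (nm f (2 ^ (i + 1)) % t ^ (k + 2)) 0) ||
      Nat.blt (bk L t (k + 2)) (nm f (2 ^ (i + 1)))) &&
  ((List.range (K - 1)).all fun k => Nat.blt (bk L t (k + 2)) (nm f (2 ^ N)))

theorem blt_lt {a b : ℕ} (h : Nat.blt a b = true) : a < b := by
  unfold Nat.blt at h
  exact Nat.le_of_ble_eq_true h

theorem not_beq {a : ℕ} (h : (!(Nat.beq a 0)) = true) : a ≠ 0 := by
  rintro rfl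
  exact absurd h (by decide)

theorem chk_spec {f : Fam} {t K N i k : ℕ} (h : chk f t (Lc t) K N = true) (hi : 1 ≤ i) (hk : 2 ≤ k) (hkK : k ≤ K)
    (hd : t ^ k ∣ nm f (2 ^ i)) (hB : nm f (2 ^ i) ≤ Bk t (2 * t) k) : False := by
  rw [chk, Bool.and_eq_true, List.all_eq_true, List.all_eq_true] at h
  obtain ⟨h1, h2⟩ := h
  have hkr : k - 2 ∈ List.range (K - 1) := List.mem_range.2 (by omega)
  rcases Nat.lt_or_ge i N with hlt | hge
  · have h3 := h1 (i - 1) (List.mem_range.2 (by omega))
    rw [Nat.sub_add_cancel hi, Bool.or_eq_true, List.all_eq_true] at h3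
    rcases h3 with h3 | h3
    · exact not_beq h3 (Nat.mod_eq_zero_of_dvd ((pow_dvd_pow t hk).trans hd))
    · have h4 := h3 (k - 2) hkr
      rw [Nat.sub_add_cancel hk, Bool.or_eq_true] at h4
      rcases h4 with h4 | h4
      · exact not_beq h4 (Nat.mod_eq_zero_of_dvd hd)
      · have h5 := blt_lt h4
        rw [bk_eq] at h5
        omega
  · have h3 := h2 (k - 2) hkr
    rw [Nat.sub_add_cancel hk] at h3
    have h4 := blt_lt h3
    rw [bk_eq] at h4
    have h5 : nm f (2 ^ N) ≤ nm f (2 ^ i) := nm_mono f (Nat.pow_le_pow_right (by norm_num) hge)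
    omega

theorem chk_td4 : (tab.all fun x => chk .td4 x.1 x.2.1 14 x.2.2.1) = true := by decide +kernel

theorem chk_g2 : (tab.all fun x => chk .g2 x.1 x.2.1 7 x.2.2.2) = true := by decide +kernel

theorem exists_row {t : ℕ} (h : t ∈ spo) : ∃ x ∈ tab, x.1 = t ∧ x.2.1 = Lc t := by
  obtain ⟨x, hx, rfl⟩ := List.mem_map.1 h
  exact ⟨x, hx, rfl, (Nat.eq_of_beq_eq_true (List.all_eq_true.1 Lc_chk x hx)).symm⟩

theorem even_pow {q : ℕ} (hq : IsPrimePow q) (h2 : 2 ∣ q) : ∃ i, 1 ≤ i ∧ q = 2 ^ i := by
  obtain ⟨r, k, hr, hk, rfl⟩ := hq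
  have h3 := (Nat.prime_two).dvd_of_dvd_pow h2
  rw [Nat.prime_dvd_prime_iff_eq Nat.prime_two hr.nat_prime] at h3
  exact ⟨k, hk, by rw [h3]⟩

/-- **`³D₄(q)`, `q` even** -/
theorem spor_td4 {t : ℕ} (ht : t ∈ spo) {q k C : ℕ} (hq : IsPrimePow q) (h2 : 2 ∣ q) (hk : 2 ≤ k) (hk' : k ≤ 14)
    (hC : dn .td4 q * C = nm .td4 q) (hd : t ^ k ∣ C) (hB : C ≤ Bk t (2 * t) k) : False := by
  obtain ⟨i, hi, rfl⟩ := even_pow hq h2
  obtain ⟨x, hx, rfl, hL⟩ := exists_row ht
  have h1 : chk .td4 x.1 x.2.1 14 x.2.2.1 = true := List.all_eq_true.1 chk_td4 x hx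
  rw [hL] at h1
  have hC' : C = nm .td4 (2 ^ i) := by rw [← hC]; exact (one_mul C).symm
  exact chk_spec h1 hi hk hk' (hC' ▸ hd) (hC' ▸ hB)

/-- **`G₂(q)`, `q` even** -/
theorem spor_g2 {t : ℕ} (ht : t ∈ spo) {q k C : ℕ} (hq : IsPrimePow q) (h2 : 2 ∣ q) (hk : 2 ≤ k) (hk' : k ≤ 7)
    (hC : dn .g2 q * C = nm .g2 q) (hd : t ^ k ∣ C) (hB : C ≤ Bk t (2 * t) k) : False := by
  obtain ⟨i, hi, rfl⟩ := even_pow hq h2
  obtain ⟨x, hx, rfl, hL⟩ := exists_row ht
  have h1 : chk .g2 x.1 x.2.1 7 x.2.2.2 = true := List.all_eq_true.1 chk_g2 x hx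
  rw [hL] at h1
  have hC' : C = nm .g2 (2 ^ i) := by rw [← hC]; exact (one_mul C).symm
  exact chk_spec h1 hi hk hk' (hC' ▸ hd) (hC' ▸ hB)

end Cfsg.Agent.H631.EK
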